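import Groth.Agent.Lib.DGen9.Gen
import Groth.Agent.Lib.DGam9.Basic
import Groth.Agent.Lib.DMV.GammaUnit
import Groth.Agent.Lib.DMV.Derived
import Groth.Agent.Lib.DMV.Perfect
import Groth.Agent.Lib.DPush.QCoh
import Groth.Agent.Lib.DPush.Comp
import Groth.Agent.Lib.DQC.Affine
import Groth.Agent.Lib.DGen9.Affine
import Groth.Agent.Lib.RHom.Compact
import Groth.Agent.Lib.RelPCS8.Chart
import Groth.Agent.Lib.LocCohZ.DepthVanish

/-! Uniform bounds for the quasi-coherator in terms of classes on affine opens. -/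

set_option autoImplicit false
set_option linter.unusedSectionVars false
set_option linter.style.haveILetI false
set_option backward.isDefEq.respectTransparency false
set_option backward.isDefEq.respectTransparency.types false
set_option maxHeartbeats 1600000

universe u

open CategoryTheory CategoryTheory.Limits AlgebraicGeometry Pretriangulated Opposite

attribute [local instance] HasDerivedCategory.standard

namespace Groth.Agent.DQBd9

attribute [local instance] DBC9.hasRpush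

open DGen9

variable {X : Scheme.{u}}

/-- A universal map from an object with quasi-coherent cohomology. -/
def IsDQ {W : Scheme.{u}} {N K : DCoh.D W} (ε : N ⟶ K) : Prop :=
  DCoh.IsQCohD N ∧ ∀ G : DCoh.D W, DCoh.IsQCohD G → Function.Bijective (fun u : G ⟶ N => u ≫ ε)

theorem IsDQ.comp_iso {W : Scheme.{u}} {N K K' : DCoh.D W} {ε : N ⟶ K} (h : IsDQ ε) (e : K ≅ K') :
    IsDQ (ε ≫ e.hom) := by
  refine ⟨h.1, fun G hG => ?_⟩
  have : (fun u : G ⟶ N => u ≫ ε ≫ e.hom) = e.homToEquiv ∘ (fun u : G ⟶ N => u ≫ ε) :=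
    funext fun u => (Category.assoc _ _ _).symm
  rw [this]
  exact e.homToEquiv.bijective.comp (h.2 G hG)

theorem IsDQ.shift {W : Scheme.{u}} {N K : DCoh.D W} {ε : N ⟶ K} (h : IsDQ ε) (n : ℤ) {G : DCoh.D W}
    (hG : DCoh.IsQCohD G) : Function.Bijective (fun u : G ⟶ N⟦n⟧ => u ≫ ε⟦n⟧') := by
  let F := shiftFunctor (DCoh.D W) n
  let η : (G⟦-n⟧)⟦n⟧ ≅ G := (shiftFunctorCompIsoId (DCoh.D W) (-n) n (by omega)).app G
  let a : (G⟦-n⟧ ⟶ N) ≃ (G ⟶ N⟦n⟧) := (Functor.FullyFaithful.ofFullyFaithful F).homEquiv.trans η.homFromEquiv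
  let b : (G⟦-n⟧ ⟶ K) ≃ (G ⟶ K⟦n⟧) := (Functor.FullyFaithful.ofFullyFaithful F).homEquiv.trans η.homFromEquiv
  have : (fun u : G ⟶ N⟦n⟧ => u ≫ ε⟦n⟧') = b ∘ (fun u : G⟦-n⟧ ⟶ N => u ≫ ε) ∘ a.symm := by
    funext u
    obtain ⟨v, rfl⟩ := a.surjective u
    simp only [Function.comp_apply, Equiv.symm_apply_apply]
    show (η.inv ≫ F.map v) ≫ F.map ε = η.inv ≫ F.map (v ≫ ε)
    rw [Category.assoc, Functor.map_comp]
  rw [this]
  exact b.bijective.comp ((h.2 _ (DMV.isQCohD_shift G hG (-n))).comp a.symm.bijective)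

/-- The first vertex of a triangle, universally. -/
theorem exists_dq₁ {W : Scheme.{u}} {M₁ M₂ M₃ N₂ N₃ : DCoh.D W} {a : M₁ ⟶ M₂} {b : M₂ ⟶ M₃}
    {c : M₃ ⟶ M₁⟦(1 : ℤ)⟧} (hT : Triangle.mk a b c ∈ distTriang _) {ε₂ : N₂ ⟶ M₂} {ε₃ : N₃ ⟶ M₃}
    (h₂ : IsDQ ε₂) (h₃ : IsDQ ε₃) :
    ∃ (C : DCoh.D W) (f : C ⟶ N₂) (g : N₂ ⟶ N₃) (h : N₃ ⟶ C⟦(1 : ℤ)⟧) (φ : C ⟶ M₁),
      Triangle.mk f g h ∈ distTriang _ ∧ IsDQ φ := by
  obtain ⟨g, hg⟩ := (h₃.2 N₂ h₂.1).2 (ε₂ ≫ b)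
  simp only at hg
  obtain ⟨C, f, h, hC⟩ := distinguished_cocone_triangle₁ g
  obtain ⟨φ, hφ₁, hφ₂⟩ := complete_distinguished_triangle_morphism₁ _ _ hC hT ε₂ ε₃ hg
  refine ⟨C, f, g, h, φ, hC, DGen9.isQCohD_obj₁ _ hC h₂.1 h₃.1, fun G hG => ⟨fun s s' hss => ?_, fun s => ?_⟩⟩
  · -- injectivity
    suffices ∀ s : G ⟶ C, s ≫ φ = 0 → s = 0 from
      sub_eq_zero.1 (this (s - s') (by rw [Preadditive.sub_comp]; exact sub_eq_zero.2 hss))
    intro s hs
    have h1 : s ≫ f = 0 := (h₂.2 G hG).1 (by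
      show (s ≫ f) ≫ ε₂ = 0 ≫ ε₂
      rw [Category.assoc, show f ≫ ε₂ = φ ≫ a from hφ₁, reassoc_of% hs, zero_comp, zero_comp])
    let R₁ : Triangle (DCoh.D W) := (Triangle.mk f g h).invRotate
    let R₂ : Triangle (DCoh.D W) := (Triangle.mk a b c).invRotate
    let m : R₁ ⟶ R₂ := (invRotate (DCoh.D W)).map
      (Triangle.homMk (Triangle.mk f g h) (Triangle.mk a b c) φ ε₂ ε₃ hφ₁ hg hφ₂)
    obtain ⟨w, hw⟩ := Triangle.coyoneda_exact₂ R₁ (inv_rot_of_distTriang _ hC) s h1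
    have h2 : (w ≫ m.hom₁) ≫ R₂.mor₁ = 0 := by
      rw [Category.assoc, ← m.comm₁, ← Category.assoc]
      rw [show w ≫ R₁.mor₁ = s from hw.symm]
      exact hs
    obtain ⟨v, hv⟩ := Triangle.coyoneda_exact₂ R₂.invRotate
      (inv_rot_of_distTriang _ (inv_rot_of_distTriang _ hT)) (w ≫ m.hom₁) h2
    let m' : R₁.invRotate ⟶ R₂.invRotate := (invRotate (DCoh.D W)).map m
    obtain ⟨v', hv'⟩ := (h₂.shift (-1) hG).2 v
    simp only at hv'
    have h3 : w = v' ≫ R₁.invRotate.mor₁ := (h₃.shift (-1) hG).1 (by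
      show w ≫ m.hom₁ = (v' ≫ R₁.invRotate.mor₁) ≫ m'.hom₂
      rw [hv, ← hv', Category.assoc, Category.assoc]
      congr 1
      exact m'.comm₁.symm)
    rw [hw, h3, Category.assoc]
    exact (congrArg (v' ≫ ·) (comp_distTriang_mor_zero₁₂ _
      (inv_rot_of_distTriang _ (inv_rot_of_distTriang _ hC)))).trans comp_zero
  · -- surjectivity
    obtain ⟨t, ht⟩ := (h₂.2 G hG).2 (s ≫ a)
    simp only at ht
    have h1 : t ≫ g = 0 := (h₃.2 G hG).1 (by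
      show (t ≫ g) ≫ ε₃ = 0 ≫ ε₃
      rw [Category.assoc, hg, reassoc_of% ht, zero_comp,
        show a ≫ b = 0 from comp_distTriang_mor_zero₁₂ _ hT, comp_zero])
    obtain ⟨t', ht'⟩ : ∃ t' : G ⟶ C, t = t' ≫ f := Triangle.coyoneda_exact₂ _ hC t h1
    subst ht'
    let R₁ : Triangle (DCoh.D W) := (Triangle.mk f g h).invRotate
    let R₂ : Triangle (DCoh.D W) := (Triangle.mk a b c).invRotate
    let m : R₁ ⟶ R₂ := (invRotate (DCoh.D W)).map
      (Triangle.homMk (Triangle.mk f g h) (Triangle.mk a b c) φ ε₂ ε₃ hφ₁ hg hφ₂)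
    let u₁ : N₃⟦(-1 : ℤ)⟧ ⟶ C := R₁.mor₁
    let u₂ : M₃⟦(-1 : ℤ)⟧ ⟶ M₁ := R₂.mor₁
    have e : u₁ ≫ φ = ε₃⟦(-1 : ℤ)⟧' ≫ u₂ := m.comm₁
    let d : G ⟶ M₁ := s - (show G ⟶ M₁ from t' ≫ φ)
    have h5 : d ≫ a = 0 := by
      show (s - (show G ⟶ M₁ from t' ≫ φ)) ≫ a = 0
      rw [Preadditive.sub_comp, sub_eq_zero, Category.assoc, ← show f ≫ ε₂ = φ ≫ a from hφ₁, ← ht,
        Category.assoc]
    have h6 : ∃ w : G ⟶ M₃⟦(-1 : ℤ)⟧, d = w ≫ u₂ :=
      Triangle.coyoneda_exact₂ R₂ (inv_rot_of_distTriang _ hT) d h5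
    obtain ⟨w, hw⟩ := h6
    obtain ⟨w', hw'⟩ := (h₃.shift (-1) hG).2 w
    simp only at hw'
    refine ⟨(t' + w' ≫ u₁ : G ⟶ C), ?_⟩
    show (t' + w' ≫ u₁ : G ⟶ C) ≫ φ = s
    rw [Preadditive.add_comp, Category.assoc, e, ← Category.assoc, hw', ← hw]
    show (show G ⟶ M₁ from t' ≫ φ) + d = s
    exact add_sub_cancel _ _

/-- Cohomological vanishing of a complex from vanishing of classes out of the structure sheaf. -/
theorem subsingleton_hom_of_rGamma [DCoh.HasRΓ X] (L : DCoh.D X) (m : ℤ)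
    (h : IsZero ((DerivedCategory.homologyFunctor AddCommGrpCat.{u} m).obj ((DCoh.RΓ X).obj L))) :
    Subsingleton ((DerivedCategory.singleFunctor X.Modules m).obj ((DQC.gen X).obj ⊤) ⟶ L) := by
  obtain ⟨I, hI, ⟨e⟩⟩ := KInjLib.exists_iso_kInjective L
  haveI := hI
  let Γc := ((DCoh.gammaAb X).mapHomologicalComplex (ComplexShape.up ℤ)).obj I
  have hz : IsZero (Γc.homology m) := h.of_iso
    (((DerivedCategory.homologyFunctorFactors AddCommGrpCat.{u} m).app Γc).symm ≪≫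
      (DerivedCategory.homologyFunctor AddCommGrpCat.{u} m).mapIso
        (DMV.gammaIso X I ≪≫ (DCoh.RΓ X).mapIso e.symm))
  have hex : (Γc.sc' (m - 1) m (m + 1)).Exact :=
    (Γc.exactAt_iff' (m - 1) m (m + 1) (by simp) (by simp)).1 ((Γc.exactAt_iff_isZero_homology m).2 hz)
  let σ := (DerivedCategory.singleFunctorIsoCompQ X.Modules m).app ((DQC.gen X).obj ⊤)
  suffices ∀ x : DerivedCategory.Q.obj ((HomologicalComplex.single X.Modules (ComplexShape.up ℤ) m).obj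
      ((DQC.gen X).obj ⊤)) ⟶ DerivedCategory.Q.obj I, x = 0 from
    ⟨fun x y => by
      have hx := this (σ.inv ≫ x ≫ e.hom)
      have hy := this (σ.inv ≫ y ≫ e.hom)
      exact (cancel_epi σ.inv).1 ((cancel_mono e.hom).1 (by rw [Category.assoc, Category.assoc, hx, hy]))⟩
  intro x
  obtain ⟨k, rfl⟩ := KInjLib.exists_map_eq x
  let z := DQC.genHom ⊤ _ ((HomologicalComplex.singleObjXSelf (ComplexShape.up ℤ) m _).inv ≫ k.f m)
  have hz' : (I.d m (m + 1)).app ⊤ z = 0 := by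
    rw [← DQC.genHom_comp, Category.assoc, DMV.single_comp_d k (m + 1)]
    rw [← zero_comp (f := (0 : I.X (m + 1) ⟶ I.X (m + 1))) (X := (DQC.gen X).obj ⊤), DQC.genHom_comp]
    rfl
  obtain ⟨w, hw⟩ := (ShortComplex.ab_exact_iff _).1 hex z hz'
  obtain ⟨H⟩ := DMV.nullHomotopic_of_boundary k ((DQC.genHom ⊤ _).symm w) ((DQC.genHom ⊤ _).injective (by
    refine Eq.trans ?_ (DQC.genHom_comp _ _ _).symm
    rw [Equiv.apply_symm_apply]
    exact hw.symm))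
  rw [DerivedCategory.Q_map_eq_of_homotopy _ H, Functor.map_zero]

theorem isQCohD_single_deg {W : Scheme.{u}} {M : W.Modules} (hM : Coh.IsQCoh M) (i : ℤ) :
    DCoh.IsQCohD ((DerivedCategory.singleFunctor W.Modules i).obj M) := fun q => by
  by_cases hq : q = i
  · subst hq
    exact M1.isQCoh_of_isIso
      ((DerivedCategory.singleFunctorCompHomologyFunctorIso W.Modules q).app M).symm hM
  · refine DPush.isQCoh_of_isZero ?_
    rcases lt_or_gt_of_ne hq with hlt | hlt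
    · exact DerivedCategory.isZero_of_isGE _ i q hlt
    · exact DerivedCategory.isZero_of_isLE _ i q hlt

/-- Classes vanishing outside the interval on every affine open. -/
def Hyp (K : DCoh.D X) (a b : ℤ) : Prop :=
  ∀ U : X.Opens, IsAffineOpen U → ∀ i : ℤ, i < a ∨ b < i →
    Subsingleton ((DerivedCategory.singleFunctor (U : Scheme.{u}).Modules i).obj ((DQC.gen (U : Scheme.{u})).obj ⊤) ⟶
      (DPerf.resD U.ι).obj K)

/-- The quasi-coherator of a pushed restriction is uniformly bounded. -/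
def Bd {Z : Scheme.{u}} (j : Z ⟶ X) [IsOpenImmersion j] : Prop :=
  ∃ N : ℕ, ∀ (K : DCoh.D X) (a b : ℤ), Hyp K a b → ∀ (T : DCoh.D X)
    (ε : T ⟶ (DCoh.Rpush j).obj ((DPerf.resD j).obj K)), IsDQ ε → T.IsGE a ∧ T.IsLE (b + N)

theorem isGE_isLE_of_iso {W : Scheme.{u}} {T T' : DCoh.D W} (e : T ≅ T') {a b : ℤ} (h : T.IsGE a ∧ T.IsLE b) :
    T'.IsGE a ∧ T'.IsLE b :=
  haveI := h.1; haveI := h.2
  ⟨DerivedCategory.TStructure.t.isGE_of_iso e a, DerivedCategory.TStructure.t.isLE_of_iso e b⟩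

theorem IsDQ.unique {W : Scheme.{u}} {N N' K : DCoh.D W} {ε : N ⟶ K} {ε' : N' ⟶ K} (h : IsDQ ε) (h' : IsDQ ε') :
    Nonempty (N ≅ N') := by
  obtain ⟨u, hu⟩ := (h'.2 N h.1).2 ε
  obtain ⟨v, hv⟩ := (h.2 N' h'.1).2 ε'
  simp only at hu hv
  exact ⟨⟨u, v, (h.2 N h.1).1 (by show (u ≫ v) ≫ ε = 𝟙 N ≫ ε; rw [Category.assoc, hv, hu, Category.id_comp]),
    (h'.2 N' h'.1).1 (by show (v ≫ u) ≫ ε' = 𝟙 N' ≫ ε'; rw [Category.assoc, hu, hv, Category.id_comp])⟩⟩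

theorem bd_congr {Z Z' : Scheme.{u}} (e : Z' ≅ Z) (j : Z ⟶ X) [IsOpenImmersion j] (j' : Z' ⟶ X) [IsOpenImmersion j']
    (w : e.hom ≫ j = j') (h : Bd j) : Bd j' := by
  subst w
  obtain ⟨N, hN⟩ := h
  refine ⟨N, fun K a b hK T ε hε => ?_⟩
  let L := (DPerf.resD j).obj K
  haveI : IsIso ((adjR e.hom).unit.app L) := by
    haveI := isIso_resD_unit e.hom L
    haveI : (DPerf.resD e.hom).Faithful := inferInstanceAs ((resEquiv e).functor.Faithful)
    haveI : (DPerf.resD e.hom).Full := inferInstanceAs ((resEquiv e).functor.Full)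
    exact isIso_of_fully_faithful (DPerf.resD e.hom) _
  let Φ : (DCoh.Rpush (e.hom ≫ j)).obj ((DPerf.resD (e.hom ≫ j)).obj K) ≅ (DCoh.Rpush j).obj L :=
    (DCoh.Rpush (e.hom ≫ j)).mapIso ((DPerf.resDComp j e.hom).app K).symm ≪≫
      ((DPush.compIso e.hom j).app _).symm ≪≫ (DCoh.Rpush j).mapIso (asIso ((adjR e.hom).unit.app L)).symm
  exact hN K a b hK T _ (hε.comp_iso Φ)

/-- Affine opens. -/
theorem bd_affine [CompactSpace X] [QuasiSeparatedSpace X] {U : X.Opens} (hU : IsAffineOpen U) : Bd U.ι := by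
  haveI : IsAffine (U : Scheme.{u}) := hU
  haveI := quasiCompact_ι hU.isCompact
  obtain ⟨N₀, hN₀⟩ := DPush.exists_bound U.ι
  refine ⟨N₀, fun K a b hK T ε hε => ?_⟩
  let L := (DPerf.resD U.ι).obj K
  let e := (U : Scheme.{u}).isoSpec
  let R := Γ((U : Scheme.{u}), ⊤)
  haveI : PreservesFiniteLimits (tilde.functor R) := M1.tilde_preservesFiniteLimits
  obtain ⟨I, hI, ⟨eI⟩⟩ := KInjLib.exists_iso_kInjective ((DPerf.resD e.inv).obj L)
  haveI := hI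
  let M : Dual.D R := DerivedCategory.Q.obj (DQC.rightX (G := moduleSpecΓFunctor (R := R)) I)
  let εS : (DPerf.tildeDD R).obj M ⟶ (DPerf.resD e.inv).obj L :=
    DQC.epsD (tilde.functor R) tilde.adjunction I ≫ eI.inv
  have hεS : ∀ M' : Dual.D R, Function.Bijective (fun h : M' ⟶ M => (DPerf.tildeDD R).map h ≫ εS) := fun M' => by
    have h0 := DQC.bijective_adjD (tilde.functor R) tilde.adjunction I M'
    have : (fun h : M' ⟶ M => (DPerf.tildeDD R).map h ≫ εS) =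
        eI.symm.homToEquiv ∘ fun h => (DPerf.tildeDD R).map h ≫ DQC.epsD (tilde.functor R) tilde.adjunction I :=
      funext fun h => (Category.assoc _ _ _).symm
    rw [this]
    exact eI.symm.homToEquiv.bijective.comp h0
  let εU : (tX e).obj M ⟶ L := (DPerf.resD e.hom).map εS ≫ (resEquiv e).counitIso.hom.app L
  have hεU : IsDQ εU := by
    refine ⟨DQC.isQCohD_resD e.hom (DQC.isQCohD_obj M), fun G hG => ?_⟩
    obtain ⟨M', ⟨eG⟩⟩ := exists_tX_iso e hG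
    let e₁ := eG.homFromEquiv (Z := (tX e).obj M)
    let e₂ := eG.homFromEquiv (Z := L)
    let e₃ := Equiv.ofBijective _ (bijective_tX e M' M)
    let c : (DPerf.resD e.hom).obj ((DPerf.resD e.inv).obj L) ≅ L := (resEquiv e).counitIso.app L
    let e₄ := c.homToEquiv (Z := (tX e).obj M')
    haveI : (DPerf.resD e.hom).Faithful := inferInstanceAs ((resEquiv e).functor.Faithful)
    haveI : (DPerf.resD e.hom).Full := inferInstanceAs ((resEquiv e).functor.Full)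
    have hr : Function.Bijective fun t : (DPerf.tildeDD R).obj M' ⟶ (DPerf.resD e.inv).obj L =>
        (DPerf.resD e.hom).map t :=
      (Functor.FullyFaithful.ofFullyFaithful (DPerf.resD e.hom)).map_bijective _ _
    have : (fun u : G ⟶ (tX e).obj M => u ≫ εU) =
        e₂ ∘ e₄ ∘ (fun t => (DPerf.resD e.hom).map t) ∘ (fun h : M' ⟶ M => (DPerf.tildeDD R).map h ≫ εS) ∘
          e₃.symm ∘ e₁.symm := by
      funext u
      obtain ⟨u', rfl⟩ := e₁.surjective u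
      obtain ⟨h, rfl⟩ := e₃.surjective u'
      simp only [Function.comp_apply, Equiv.symm_apply_apply]
      show (eG.inv ≫ (tX e).map h) ≫ _ ≫ _ = eG.inv ≫ _ ≫ _
      rw [Functor.map_comp, Category.assoc, Category.assoc]
      simp only [εS, εU, Functor.map_comp, Category.assoc]
      rfl
    rw [this]
    exact e₂.bijective.comp (e₄.bijective.comp (hr.comp ((hεS M').comp (e₃.symm.bijective.comp e₁.symm.bijective))))
  -- bounds on the affine open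
  have hz : ∀ i : ℤ, i < a ∨ b < i → IsZero (DCoh.HD ((tX e).obj M) i) := fun i hi => by
    haveI := hK U hU i hi
    let G₀ := (DQC.gen (U : Scheme.{u})).obj ⊤
    have hG₀ : Coh.IsQCoh G₀ := M1.isQCoh_of_isIso RHom.topIso (M1.isQCoh_structureModule _)
    haveI : Coh.IsQCoh (DCoh.HD ((tX e).obj M) i) := hεU.1 i
    have hS : Subsingleton ((DerivedCategory.singleFunctor (U : Scheme.{u}).Modules i).obj G₀ ⟶ (tX e).obj M) :=
      (hεU.2 _ (isQCohD_single_deg hG₀ i)).1.subsingleton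
    have hS' : Subsingleton (G₀ ⟶ DCoh.HD ((tX e).obj M) i) :=
      (DQC.bijective_θ _ hεU.1 (isAffineOpen_top _) i).2.subsingleton
    refine LocCohZQ.isZero_of_sections_top _ fun t => ?_
    exact (DQC.genHom ⊤ _).symm.injective (Subsingleton.elim _ _)
  have hqT : DCoh.IsQCohD ((tX e).obj M) := hεU.1
  haveI : ((tX e).obj M).IsGE a := (DerivedCategory.isGE_iff _ _).2 fun i hi => hz i (Or.inl hi)
  haveI hLE : ((tX e).obj M).IsLE b := (DerivedCategory.isLE_iff _ _).2 fun i hi => hz i (Or.inr hi)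
  let P := (DCoh.Rpush U.ι).obj ((tX e).obj M)
  have hP : IsDQ ((DCoh.Rpush U.ι).map εU) := by
    refine ⟨DPush.isQCohD_rpush U.ι _ hεU.1, fun G hG => ?_⟩
    let adj := adjR U.ι
    have : (fun u : G ⟶ P => u ≫ (DCoh.Rpush U.ι).map εU) =
        adj.homEquiv _ _ ∘ (fun v => v ≫ εU) ∘ (adj.homEquiv G _).symm := by
      funext u
      obtain ⟨v, rfl⟩ := (adj.homEquiv G _).surjective u
      simp only [Function.comp_apply, Equiv.symm_apply_apply]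
      rw [adj.homEquiv_naturality_right]
    rw [this]
    exact (adj.homEquiv _ _).bijective.comp ((hεU.2 _ (DQC.isQCohD_resD U.ι hG)).comp (adj.homEquiv G _).symm.bijective)
  obtain ⟨eT⟩ := hP.unique hε
  refine isGE_isLE_of_iso eT ⟨DPush.isGE_rpush U.ι _ a inferInstance, ?_⟩
  exact (DerivedCategory.isLE_iff _ _).2 fun i hi => hN₀ _ hqT b hLE i (by omega)

/-- Gluing. -/
theorem bd_union (hex : ∀ M : DCoh.D X, ∃ (T : DCoh.D X) (ε : T ⟶ M), IsDQ ε) {Z : Scheme.{u}} (j : Z ⟶ X)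
    [IsOpenImmersion j] (U V : Z.Opens) (hUV : U ⊔ V = ⊤) (h₁ : Bd (U.ι ≫ j)) (h₂ : Bd (V.ι ≫ j))
    (h₁₂ : Bd ((U ⊓ V).ι ≫ j)) : Bd j := by
  obtain ⟨N₁, hN₁⟩ := h₁
  obtain ⟨N₂, hN₂⟩ := h₂
  obtain ⟨N₁₂, hN₁₂⟩ := h₁₂
  refine ⟨N₁ + N₂ + N₁₂ + 1, fun K a b hK T ε hε => ?_⟩
  haveI : PreservesFiniteLimits (Scheme.Modules.restrictFunctor U.ι) := inferInstance
  obtain ⟨p, q, r, hT⟩ := DMV.exists_open_triangle U V hUV ((DPerf.resD j).obj K)
  obtain ⟨_, _⟩ := DPush.exists_commShift_isTriangulated j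
  have hT' := (DCoh.Rpush j).map_distinguished _ hT
  haveI : PreservesBinaryBiproducts (DCoh.Rpush j) := preservesBinaryBiproducts_of_preservesBiproducts _
  let Φ : ∀ W : Z.Opens, (DCoh.Rpush j).obj ((DCoh.Rpush W.ι).obj ((DPerf.resD W.ι).obj ((DPerf.resD j).obj K))) ≅
      (DCoh.Rpush (W.ι ≫ j)).obj ((DPerf.resD (W.ι ≫ j)).obj K) := fun W =>
    (DPush.compIso W.ι j).app _ ≪≫ (DCoh.Rpush (W.ι ≫ j)).mapIso ((DPerf.resDComp j W.ι).app K)
  let Ψ := (DCoh.Rpush j).mapBiprod ((DCoh.Rpush U.ι).obj ((DCoh.restrictD U.ι).obj ((DPerf.resD j).obj K)))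
    ((DCoh.Rpush V.ι).obj ((DCoh.restrictD V.ι).obj ((DPerf.resD j).obj K)))
  obtain ⟨T₁, ε₁, h₁⟩ := hex ((DCoh.Rpush (U.ι ≫ j)).obj ((DPerf.resD (U.ι ≫ j)).obj K))
  obtain ⟨T₂, ε₂, h₂⟩ := hex ((DCoh.Rpush (V.ι ≫ j)).obj ((DPerf.resD (V.ι ≫ j)).obj K))
  obtain ⟨T₃, ε₃, h₃⟩ := hex ((DCoh.Rpush ((U ⊓ V).ι ≫ j)).obj ((DPerf.resD ((U ⊓ V).ι ≫ j)).obj K))
  let ε' : T₁ ⊞ T₂ ⟶ _ := biprod.map (ε₁ ≫ (Φ U).inv) (ε₂ ≫ (Φ V).inv) ≫ Ψ.inv
  have hmid : IsDQ ε' := by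
    refine IsDQ.comp_iso ?_ Ψ.symm
    have e₁ := h₁.comp_iso (Φ U).symm
    have e₂ := h₂.comp_iso (Φ V).symm
    refine ⟨DGen9.isQCohD_obj₂ _ (binaryBiproductTriangle_distinguished T₁ T₂) e₁.1 e₂.1, fun G hG =>
      ⟨fun s t (hst : s ≫ _ = t ≫ _) => ?_, fun s => ?_⟩⟩
    · refine biprod.hom_ext _ _ ((e₁.2 G hG).1 ?_) ((e₂.2 G hG).1 ?_)
      · have := congrArg (· ≫ biprod.fst) hst
        simpa using this
      · have := congrArg (· ≫ biprod.snd) hst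
        simpa using this
    · obtain ⟨s₁, hs₁⟩ := (e₁.2 G hG).2 (s ≫ biprod.fst)
      obtain ⟨s₂, hs₂⟩ := (e₂.2 G hG).2 (s ≫ biprod.snd)
      simp only at hs₁ hs₂
      exact ⟨biprod.lift s₁ s₂, biprod.hom_ext _ _ (by simpa using hs₁) (by simpa using hs₂)⟩
  obtain ⟨C, f, g, h, φ, hC, hφ⟩ := exists_dq₁ hT' hmid (h₃.comp_iso (Φ (U ⊓ V)).symm)
  obtain ⟨eT⟩ := hφ.unique hε
  refine isGE_isLE_of_iso eT ?_
  obtain ⟨g₁, l₁⟩ := hN₁ K a b hK T₁ ε₁ h₁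
  obtain ⟨g₂, l₂⟩ := hN₂ K a b hK T₂ ε₂ h₂
  obtain ⟨g₃, l₃⟩ := hN₁₂ K a b hK T₃ ε₃ h₃
  have hmid0 : ∀ i : ℤ, i < a ∨ b + (N₁ + N₂ : ℕ) < i → IsZero (DCoh.HD (T₁ ⊞ T₂) i) := fun i hi =>
    (DerivedCategory.HomologySequence.exact₂ _ (binaryBiproductTriangle_distinguished T₁ T₂) i).isZero_of_both_zeros
      ((show IsZero (DCoh.HD T₁ i) from hi.elim (fun h => DerivedCategory.isZero_of_isGE _ a i h)
        fun h => DerivedCategory.isZero_of_isLE _ (b + N₁) i (by omega)).eq_of_src _ _)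
      ((show IsZero (DCoh.HD T₂ i) from hi.elim (fun h => DerivedCategory.isZero_of_isGE _ a i h)
        fun h => DerivedCategory.isZero_of_isLE _ (b + N₂) i (by omega)).eq_of_tgt _ _)
  have hC0 : ∀ i : ℤ, i < a ∨ b + (N₁ + N₂ + N₁₂ + 1 : ℕ) < i → IsZero (DCoh.HD C i) := fun i hi =>
    (DerivedCategory.HomologySequence.exact₁ _ hC (i - 1) i (by omega)).isZero_of_both_zeros
      ((show IsZero (DCoh.HD T₃ (i - 1)) from hi.elim (fun h => DerivedCategory.isZero_of_isGE _ a _ (by omega))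
        fun h => DerivedCategory.isZero_of_isLE _ (b + N₁₂) _ (by omega)).eq_of_src _ _)
      ((hmid0 i (hi.imp id fun h => by omega)).eq_of_tgt _ _)
  exact ⟨(DerivedCategory.isGE_iff _ _).2 fun i hi => hC0 i (Or.inl hi),
    (DerivedCategory.isLE_iff _ _).2 fun i hi => hC0 i (Or.inr hi)⟩

/-- Opens inside an open, along the inclusion. -/
theorem bd_sub {W S : X.Opens} (h : S ≤ W) (hS : Bd S.ι) : Bd ((W.ι ⁻¹ᵁ S).ι ≫ W.ι) :=
  bd_congr (subOpenIso h) S.ι _ (IsOpenImmersion.isoOfRangeEq_hom_fac _ _ _) hS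

/-- All quasi-compact opens. -/
theorem bd_all [CompactSpace X] [QuasiSeparatedSpace X]
    (hex : ∀ M : DCoh.D X, ∃ (T : DCoh.D X) (ε : T ⟶ M), IsDQ ε) (W : X.Opens) (hW : IsCompact (W : Set X)) :
    Bd W.ι := by
  -- quasi-compact opens inside a fixed affine open, by induction on basic opens
  have glue : ∀ S V : X.Opens, Bd S.ι → Bd V.ι → Bd (S ⊓ V).ι → Bd (S ⊔ V).ι := fun S V hS hV hSV => by
    refine bd_union hex (S ⊔ V).ι ((S ⊔ V).ι ⁻¹ᵁ S) ((S ⊔ V).ι ⁻¹ᵁ V)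
      (by rw [← Scheme.Hom.preimage_sup, Scheme.Opens.ι_preimage_self]) (bd_sub le_sup_left hS)
      (bd_sub le_sup_right hV) ?_
    rw [← Scheme.Hom.preimage_inf]
    exact bd_sub (inf_le_left.trans le_sup_left) hSV
  have hb : ∀ S T : X.Opens, S = T → Bd S.ι → Bd T.ι := fun S T h h' => h ▸ h'
  have aux : ∀ A : X.Opens, IsAffineOpen A → ∀ (S : (A : Scheme.{u}).Opens), IsCompact (S : Set (A : Scheme.{u})) →
      ∀ V : (A : Scheme.{u}).affineOpens, Bd (A.ι ''ᵁ (S ⊓ V.1)).ι := fun A hA S hS => by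
    haveI : IsAffine (A : Scheme.{u}) := hA
    refine compact_open_induction_on (P := fun S : (A : Scheme.{u}).Opens =>
      ∀ V : (A : Scheme.{u}).affineOpens, Bd (A.ι ''ᵁ (S ⊓ V.1)).ι) S hS (fun V => ?_) fun S hS U hg V => ?_
    · refine bd_affine (IsAffineOpen.image_of_isOpenImmersion ?_ A.ι)
      rw [bot_inf_eq]
      exact isAffineOpen_bot _
    · refine hb _ _ ?_ (glue (A.ι ''ᵁ (S ⊓ V.1)) (A.ι ''ᵁ (U.1 ⊓ V.1)) (hg V)
        (bd_affine ((U.2.inf V.2).image_of_isOpenImmersion A.ι))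
        (hb _ _ ?_ (hg ⟨U.1 ⊓ V.1, U.2.inf V.2⟩)))
      · rw [inf_sup_right]
        exact TopologicalSpace.Opens.ext (Set.image_union _ _ _).symm
      · refine Eq.trans ?_ (show A.ι ''ᵁ ((S ⊓ V.1) ⊓ (U.1 ⊓ V.1)) = A.ι ''ᵁ (S ⊓ V.1) ⊓ A.ι ''ᵁ (U.1 ⊓ V.1) from
          TopologicalSpace.Opens.ext (Set.image_inter A.ι.isOpenEmbedding.injective))
        show A.ι ''ᵁ (S ⊓ (U.1 ⊓ V.1)) = A.ι ''ᵁ ((S ⊓ V.1) ⊓ (U.1 ⊓ V.1))
        congr 1
        exact le_antisymm (le_inf (le_inf inf_le_left (inf_le_right.trans inf_le_right)) inf_le_right)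
          (le_inf (inf_le_left.trans inf_le_left) inf_le_right)
  refine compact_open_induction_on (P := fun S : X.Opens => Bd S.ι) W hW (bd_affine (isAffineOpen_bot X))
    fun S hS V hg => glue S V.1 hg (bd_affine V.2) ?_
  haveI : IsAffine (V.1 : Scheme.{u}) := V.2
  haveI := quasiCompact_ι (W := V.1) V.2.isCompact
  refine hb _ _ ?_ (aux V.1 V.2 (V.1.ι ⁻¹ᵁ S) (Scheme.Hom.isCompact_preimage _ (U := S) hS) ⟨⊤, isAffineOpen_top _⟩)
  rw [inf_top_eq, Scheme.Hom.image_preimage_eq_opensRange_inf, Scheme.Opens.opensRange_ι, inf_comm]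

theorem bd_main (X : Scheme.{u}) [CompactSpace X] [QuasiSeparatedSpace X]
    (hex : ∀ M : DCoh.D X, ∃ (T : DCoh.D X) (ε : T ⟶ M), IsDQ ε) :
    ∃ N : ℕ, ∀ (K : DCoh.D X) (a b : ℤ), Hyp K a b → ∀ (T : DCoh.D X) (ε : T ⟶ K), IsDQ ε →
      T.IsGE a ∧ T.IsLE (b + N) := by
  obtain ⟨N, hN⟩ := bd_congr X.topIso.symm (⊤ : X.Opens).ι (𝟙 X) (X.topIso.inv_hom_id)
    (bd_all hex ⊤ (by simpa using isCompact_univ))
  refine ⟨N, fun K a b hK T ε hε => ?_⟩
  haveI : IsIso ((adjR (𝟙 X)).unit.app K) := by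
    haveI := isIso_resD_unit (𝟙 X) K
    haveI : (DPerf.resD (𝟙 X)).Faithful := inferInstanceAs ((resEquiv (Iso.refl X)).functor.Faithful)
    haveI : (DPerf.resD (𝟙 X)).Full := inferInstanceAs ((resEquiv (Iso.refl X)).functor.Full)
    exact isIso_of_fully_faithful (DPerf.resD (𝟙 X)) _
  exact hN K a b hK T _ (hε.comp_iso (asIso ((adjR (𝟙 X)).unit.app K)))

end Groth.Agent.DQBd9
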